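import Cfsg.Agent.H94.J3.Defs

/-! Kernel evaluation of the top level checks. -/

namespace H94.J3

set_option maxRecDepth 100000

theorem top_1792 : allIn 1792 256 topChk = true := by decide +kernel
theorem top_2048 : allIn 2048 256 topChk = true := by decide +kernel
theorem top_2304 : allIn 2304 256 topChk = true := by decide +kernel
theorem top_2560 : allIn 2560 256 topChk = true := by decide +kernel
theorem top_2816 : allIn 2816 256 topChk = true := by decide +kernel
theorem top_3072 : allIn 3072 256 topChk = true := by decide +kernel
theorem top_3328 : allIn 3328 256 topChk = true := by decide +kernel

end H94.J3
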