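import Cfsg.Agent.H94.J3.Defs

/-! Kernel evaluation of the top level checks. -/

namespace H94.J3

set_option maxRecDepth 100000

theorem top_3584 : allIn 3584 256 topChk = true := by decide +kernel
theorem top_3840 : allIn 3840 256 topChk = true := by decide +kernel
theorem top_4096 : allIn 4096 256 topChk = true := by decide +kernel
theorem top_4352 : allIn 4352 256 topChk = true := by decide +kernel
theorem top_4608 : allIn 4608 256 topChk = true := by decide +kernel
theorem top_4864 : allIn 4864 256 topChk = true := by decide +kernel
theorem top_5120 : allIn 5120 256 topChk = true := by decide +kernel

end H94.J3
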