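import Cfsg.Agent.H94.J3.Defs

/-! Kernel evaluation of the top level checks. -/

namespace H94.J3

set_option maxRecDepth 100000

theorem top_5376 : allIn 5376 256 topChk = true := by decide +kernel
theorem top_5632 : allIn 5632 256 topChk = true := by decide +kernel
theorem top_5888 : allIn 5888 256 topChk = true := by decide +kernel
theorem top_6144 : allIn 6144 12 topChk = true := by decide +kernel

end H94.J3
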