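import Cfsg.Agent.H94.J3.Chk.Top0
import Cfsg.Agent.H94.J3.Chk.Top1
import Cfsg.Agent.H94.J3.Chk.Top2
import Cfsg.Agent.H94.J3.Chk.Top3

/-! All the certificate checks. -/

namespace H94.J3

set_option maxRecDepth 100000

theorem mid_ok : allIn 0 136 midChk = true := by decide +kernel
theorem low_ok : allIn 0 180 lowChk = true := by decide +kernel
theorem small_ok : smallChk = true := by decide +kernel

theorem top_spec (i : ℕ) (hi : i < 6156) : topChk i = true := by
  by_cases h0 : i < 256
  · exact allIn_spec top_0 (by omega) (by omega)
  by_cases h256 : i < 512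
  · exact allIn_spec top_256 (by omega) (by omega)
  by_cases h512 : i < 768
  · exact allIn_spec top_512 (by omega) (by omega)
  by_cases h768 : i < 1024
  · exact allIn_spec top_768 (by omega) (by omega)
  by_cases h1024 : i < 1280
  · exact allIn_spec top_1024 (by omega) (by omega)
  by_cases h1280 : i < 1536
  · exact allIn_spec top_1280 (by omega) (by omega)
  by_cases h1536 : i < 1792
  · exact allIn_spec top_1536 (by omega) (by omega)
  by_cases h1792 : i < 2048
  · exact allIn_spec top_1792 (by omega) (by omega)
  by_cases h2048 : i < 2304
  · exact allIn_spec top_2048 (by omega) (by omega)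
  by_cases h2304 : i < 2560
  · exact allIn_spec top_2304 (by omega) (by omega)
  by_cases h2560 : i < 2816
  · exact allIn_spec top_2560 (by omega) (by omega)
  by_cases h2816 : i < 3072
  · exact allIn_spec top_2816 (by omega) (by omega)
  by_cases h3072 : i < 3328
  · exact allIn_spec top_3072 (by omega) (by omega)
  by_cases h3328 : i < 3584
  · exact allIn_spec top_3328 (by omega) (by omega)
  by_cases h3584 : i < 3840
  · exact allIn_spec top_3584 (by omega) (by omega)
  by_cases h3840 : i < 4096
  · exact allIn_spec top_3840 (by omega) (by omega)
  by_cases h4096 : i < 4352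
  · exact allIn_spec top_4096 (by omega) (by omega)
  by_cases h4352 : i < 4608
  · exact allIn_spec top_4352 (by omega) (by omega)
  by_cases h4608 : i < 4864
  · exact allIn_spec top_4608 (by omega) (by omega)
  by_cases h4864 : i < 5120
  · exact allIn_spec top_4864 (by omega) (by omega)
  by_cases h5120 : i < 5376
  · exact allIn_spec top_5120 (by omega) (by omega)
  by_cases h5376 : i < 5632
  · exact allIn_spec top_5376 (by omega) (by omega)
  by_cases h5632 : i < 5888
  · exact allIn_spec top_5632 (by omega) (by omega)
  by_cases h5888 : i < 6144
  · exact allIn_spec top_5888 (by omega) (by omega)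
  by_cases h6144 : i < 6156
  · exact allIn_spec top_6144 (by omega) (by omega)
  omega

theorem mid_spec (a : ℕ) (ha : a < 136) : midChk a = true :=
  allIn_spec mid_ok (Nat.zero_le a) (by omega)

theorem low_spec (m : ℕ) (hm : m < 180) : lowChk m = true :=
  allIn_spec low_ok (Nat.zero_le m) (by omega)

end H94.J3
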