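import Cfsg.Agent.H94.J3.Defs

/-! Kernel evaluation of the top level checks. -/

namespace H94.J3

set_option maxRecDepth 100000

theorem top_0 : allIn 0 256 topChk = true := by decide +kernel
theorem top_256 : allIn 256 256 topChk = true := by decide +kernel
theorem top_512 : allIn 512 256 topChk = true := by decide +kernel
theorem top_768 : allIn 768 256 topChk = true := by decide +kernel
theorem top_1024 : allIn 1024 256 topChk = true := by decide +kernel
theorem top_1280 : allIn 1280 256 topChk = true := by decide +kernel
theorem top_1536 : allIn 1536 256 topChk = true := by decide +kernel

end H94.J3
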